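import Mathlib.RingTheory.AdicCompletion.Completeness
import Mathlib.RingTheory.AdicCompletion.LocalRing
import Mathlib.RingTheory.Noetherian.OfPrime
import Mathlib.RingTheory.Ideal.Quotient.Operations
import Mathlib.RingTheory.Finiteness.Ideal

/-!
# A complete ring with Noetherian residue ring along a finitely generated ideal is Noetherian
-/

open Ideal

namespace Groth.Agent.Compl

variable {A : Type*} [CommRing A]

omit [CommRing A] in
private lemma smul_top_eq {A : Type*} [CommRing A] (J : Ideal A) : (J • ⊤ : Submodule A A) = J := by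
  simp

lemma fg_of_fg_map_mk {I K : Ideal A} (hK : K.FG) (hle : K ≤ I) (h : (I.map (Ideal.Quotient.mk K)).FG) : I.FG := by
  classical
  obtain ⟨t, ht⟩ := h
  obtain ⟨s, hs⟩ := hK
  have hsurj := Ideal.Quotient.mk_surjective (I := K)
  choose f hf using hsurj
  refine ⟨s ∪ t.image f, ?_⟩
  rw [Finset.coe_union, Finset.coe_image]
  refine (Submodule.span_union _ _).trans ?_
  rw [show Submodule.span A (s : Set A) = K from hs]
  have h1 : (span (f '' (t : Set (A ⧸ K)))).map (Ideal.Quotient.mk K) = I.map (Ideal.Quotient.mk K) := by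
    rw [map_span, ← Set.image_comp, ← ht]
    congr 1
    simp [Function.comp_def, hf]
  have h2 := congrArg (Ideal.comap (Ideal.Quotient.mk K)) h1
  rw [comap_map_of_surjective _ Ideal.Quotient.mk_surjective, comap_map_of_surjective _ Ideal.Quotient.mk_surjective] at h2
  change _ ⊔ RingHom.ker _ = _ ⊔ RingHom.ker _ at h2
  rw [mk_ker, sup_eq_left.2 hle] at h2
  rw [sup_comm]
  exact h2


/-- A prime `𝔭` missing `g ∈ J` is generated by elements that generate it modulo `g`. -/
lemma le_span_range_of_isAdicComplete (J : Ideal A) [IsAdicComplete J A] {g : A} (hg : g ∈ J)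
    {𝔭 : Ideal A} [𝔭.IsPrime] (hgp : g ∉ 𝔭) {k : ℕ} (h : Fin k → A) (hh : ∀ i, h i ∈ 𝔭)
    (hgen : 𝔭 ≤ span (Set.range h) ⊔ span ({g} : Set A)) : 𝔭 ≤ span (Set.range h) := by
  intro y hy
  have step : ∀ z : 𝔭, ∃ (a : Fin k → A) (z' : 𝔭), (z : A) = ∑ i, a i * h i + g * z' := by
    rintro ⟨z, hz⟩
    obtain ⟨u, hu, v, hv, rfl⟩ := Submodule.mem_sup.1 (hgen hz)
    obtain ⟨a, rfl⟩ := Ideal.mem_span_range_iff_exists_fun.1 hu
    obtain ⟨c, rfl⟩ := mem_span_singleton'.1 hv
    have hgc : c * g ∈ 𝔭 := (𝔭.add_mem_iff_right (Submodule.sum_mem _ fun i _ => 𝔭.mul_mem_left _ (hh i))).1 hz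
    exact ⟨a, ⟨c, (IsPrime.mem_or_mem inferInstance hgc).resolve_right hgp⟩, by simp [mul_comm]⟩
  choose a nx hnx using step
  let ys : ℕ → 𝔭 := fun n => nx^[n] ⟨y, hy⟩
  let S : Fin k → ℕ → A := fun i n => ∑ t ∈ Finset.range n, g ^ t * a (ys t) i
  have hcauchy : ∀ i {m n : ℕ}, m ≤ n → S i m ≡ S i n [SMOD (J ^ m • ⊤ : Submodule A A)] := by
    intro i m n hmn
    induction n, hmn using Nat.le_induction with
    | base => exact SModEq.rfl
    | succ n hmn ih =>
      refine ih.trans ?_
      rw [SModEq.sub_mem, smul_top_eq]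
      have : S i n - S i (n + 1) = -(g ^ n * a (ys n) i) := by
        simp only [S, Finset.sum_range_succ]; ring
      rw [this]
      exact Submodule.neg_mem _ (mul_mem_right _ _ (Ideal.pow_le_pow_right hmn (Ideal.pow_mem_pow hg n)))
  choose L hL using fun i => IsPrecomplete.prec ‹IsAdicComplete J A›.toIsPrecomplete (hcauchy i)
  have hsum : ∀ n, y = ∑ i, S i n * h i + g ^ n * (ys n : A) := by
    intro n
    induction n with
    | zero => simp [S, ys]
    | succ n ih =>
      conv_lhs => rw [ih, hnx (ys n)]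
      have hsucc : ys (n + 1) = nx (ys n) := Function.iterate_succ_apply' nx n _
      simp only [S, Finset.sum_range_succ, add_mul, Finset.sum_add_distrib, mul_add, Finset.mul_sum, hsucc]
      rw [pow_succ]
      simp only [mul_assoc, mul_comm, mul_left_comm]
      ring
  have hzero : y - ∑ i, L i * h i = 0 := by
    refine IsHausdorff.haus ‹IsAdicComplete J A›.toIsHausdorff _ fun n => ?_
    rw [SModEq.zero, smul_top_eq]
    have : y - ∑ i, L i * h i = ∑ i, (S i n - L i) * h i + g ^ n * (ys n : A) := by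
      conv_lhs => rw [hsum n]
      simp only [sub_mul, Finset.sum_sub_distrib]; ring
    rw [this]
    refine add_mem (Submodule.sum_mem _ fun i _ => mul_mem_right _ _ ?_) (mul_mem_right _ _ (Ideal.pow_mem_pow hg n))
    have := hL i n
    rwa [SModEq.sub_mem, smul_top_eq] at this
  rw [sub_eq_zero.1 hzero]
  exact Submodule.sum_mem _ fun i _ => mul_mem_left _ _ (subset_span ⟨i, rfl⟩)

theorem isNoetherianRing_of_isAdicComplete (J : Ideal A) (hJ : J.FG) [IsAdicComplete J A]
    [IsNoetherianRing (A ⧸ J)] : IsNoetherianRing A := by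
  classical
  obtain ⟨G, hG⟩ := hJ
  suffices ∀ n, ∀ s : Finset A, s ⊆ G → (G \ s).card = n → IsNoetherianRing (A ⧸ span (s : Set A)) by
    haveI := this _ ∅ (Finset.empty_subset _) rfl
    exact isNoetherianRing_of_ringEquiv (A ⧸ span ((∅ : Finset A) : Set A))
      ((Ideal.quotEquivOfEq (by simp)).trans (RingEquiv.quotientBot A))
  intro n
  induction n using Nat.strong_induction_on with
  | _ n ih =>
    intro s hs hn
    set K := span (s : Set A) with hKdef
    have hK : K.FG := ⟨s, rfl⟩
    refine IsNoetherianRing.of_prime fun P hP => ?_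
    haveI := hP
    set 𝔭 := P.comap (Ideal.Quotient.mk K) with h𝔭
    have hPmap : 𝔭.map (Ideal.Quotient.mk K) = P := map_comap_of_surjective _ Ideal.Quotient.mk_surjective P
    rw [← hPmap]
    refine Ideal.FG.map ?_ _
    by_cases hG' : ∀ g ∈ G, g ∈ 𝔭
    · exact fg_of_fg_map_mk ⟨G, hG⟩ (hG ▸ span_le.2 fun g hg => hG' g hg) (IsNoetherian.noetherian _)
    · push Not at hG'
      obtain ⟨g, hg, hgp⟩ := hG'
      have hgs : g ∉ s := fun h => hgp (by
        rw [h𝔭, mem_comap, Ideal.Quotient.eq_zero_iff_mem.2 (subset_span h)]; exact zero_mem _)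
      haveI : IsNoetherianRing (A ⧸ span ((insert g s : Finset A) : Set A)) := by
        refine ih (G \ insert g s).card ?_ _ (Finset.insert_subset hg hs) rfl
        rw [← hn, Finset.sdiff_insert]
        exact Finset.card_erase_lt_of_mem (Finset.mem_sdiff.2 ⟨hg, hgs⟩)
      have hKle : K ≤ 𝔭 := by
        intro x hx
        rw [h𝔭, mem_comap, Ideal.Quotient.eq_zero_iff_mem.2 hx]; exact zero_mem _
      have hfg : (𝔭 ⊔ span ({g} : Set A)).FG := by
        refine fg_of_fg_map_mk (K := span ((insert g s : Finset A) : Set A)) ⟨_, rfl⟩ ?_ (IsNoetherian.noetherian _)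
        rw [Finset.coe_insert, span_insert]
        exact sup_le le_sup_right (hKle.trans le_sup_left)
      obtain ⟨F, hF⟩ := hfg
      choose p hp q hq hpq using fun f : F => Submodule.mem_sup.1
        (show (f : A) ∈ 𝔭 ⊔ span ({g} : Set A) from hF ▸ subset_span f.2)
      let h : Fin F.card → A := fun i => p (F.equivFin.symm i)
      have hh : ∀ i, h i ∈ 𝔭 := fun i => hp _
      have hgen : 𝔭 ≤ span (Set.range h) ⊔ span ({g} : Set A) := by
        refine le_trans (le_sup_left.trans hF.ge) (span_le.2 fun f hf => ?_)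
        rw [SetLike.mem_coe, show f = p ⟨f, hf⟩ + q ⟨f, hf⟩ from (hpq ⟨f, hf⟩).symm]
        exact add_mem (Submodule.mem_sup_left (subset_span ⟨F.equivFin ⟨f, hf⟩, by simp [h]⟩))
          (Submodule.mem_sup_right (hq _))
      have hfin := le_span_range_of_isAdicComplete J (hG ▸ subset_span hg) hgp h hh hgen
      rw [le_antisymm hfin (span_le.2 (by rintro _ ⟨i, rfl⟩; exact hh i))]
      exact Submodule.fg_span (Set.finite_range h)

universe u

/-- The `I`-adic completion is Noetherian when `I` is finitely generated and `R/I` is Noetherian. -/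
theorem isNoetherianRing_adicCompletion {R : Type u} [CommRing R] (I : Ideal R) (hI : I.FG)
    [IsNoetherianRing (R ⧸ I)] : IsNoetherianRing (AdicCompletion I R) := by
  haveI := AdicCompletion.isAdicComplete_self I hI
  haveI : IsNoetherianRing (AdicCompletion I R ⧸ I.map (algebraMap R (AdicCompletion I R))) := by
    refine isNoetherianRing_of_ringEquiv (R ⧸ I) (RingEquiv.symm ?_)
    exact (Ideal.quotEquivOfEq (AdicCompletion.ker_evalOneₐ_eq_map I hI).symm).trans
      (RingHom.quotientKerEquivOfSurjective (AdicCompletion.evalOneₐ_surjective I))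
  exact isNoetherianRing_of_isAdicComplete (I.map (algebraMap R (AdicCompletion I R))) (Ideal.FG.map hI _)

end Groth.Agent.Compl
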