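import Mathlib.RingTheory.AdicCompletion.AsTensorProduct
import Mathlib.RingTheory.AdicCompletion.LocalRing
import Mathlib.RingTheory.Filtration

/-!
# Complete modules
-/

open AdicCompletion Submodule TensorProduct

namespace Groth.Agent.Compl

universe u v

theorem isAdicComplete_of_finite {R : Type u} [CommRing R] [IsNoetherianRing R] (I : Ideal R)
    [IsAdicComplete I R] (M : Type u) [AddCommGroup M] [Module R M] [Module.Finite R M] :
    IsAdicComplete I M := by
  rw [← of_bijective_iff]
  let e : R ≃ₗ[R] AdicCompletion I R :=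
    LinearEquiv.ofBijective (of I R) (of_bijective_iff.2 ‹_›)
  have hcomp : ⇑(of I M) =
      ofTensorProduct I M ∘ (TensorProduct.congr e (LinearEquiv.refl R M)) ∘ (TensorProduct.lid R M).symm := by
    funext x
    have h1 : of I R 1 = 1 := (algebraMap R (AdicCompletion I R)).map_one
    simp [e, h1]
  rw [hcomp]
  exact (ofTensorProduct_bijective_of_finite_of_isNoetherian I M).comp
    ((LinearEquiv.bijective _).comp (LinearEquiv.bijective _))

theorem isAdicComplete_of_le_of_pow_le {R : Type u} [CommRing R] {I J : Ideal R} (M : Type v)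
    [AddCommGroup M] [Module R M] (hIJ : I ≤ J) {k : ℕ} (hk : J ^ k ≤ I) [IsAdicComplete I M] :
    IsAdicComplete J M := by
  have hle : ∀ n, (J ^ ((k + 1) * n) • ⊤ : Submodule R M) ≤ I ^ n • ⊤ := fun n => by
    rw [pow_mul]
    exact smul_mono_left (Ideal.pow_right_mono ((Ideal.pow_le_pow_right (Nat.le_succ k)).trans hk) n)
  have hle' : ∀ n, (I ^ n • ⊤ : Submodule R M) ≤ J ^ n • ⊤ := fun n =>
    smul_mono_left (Ideal.pow_right_mono hIJ n)
  haveI : IsHausdorff J M := ⟨fun x hx => IsHausdorff.haus' (I := I) x fun n => (hx _).mono (hle n)⟩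
  haveI : IsPrecomplete J M := ⟨fun f hf => by
    obtain ⟨L, hL⟩ := IsPrecomplete.prec (I := I) inferInstance (f := fun n => f ((k + 1) * n))
      fun {m n} h => (hf (Nat.mul_le_mul_left _ h)).mono (hle m)
    exact ⟨L, fun n => (hf (Nat.le_mul_of_pos_left n k.succ_pos)).trans ((hL n).mono (hle' n))⟩⟩
  constructor

/-- completeness lifts from a quotient of a complete ring -/
theorem isAdicComplete_of_quotient {A : Type u} [CommRing A] [IsNoetherianRing A] (I J : Ideal A)
    [IsAdicComplete I A] [IsAdicComplete (Ideal.map (Ideal.Quotient.mk I) J) (A ⧸ I)] :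
    IsAdicComplete J A := by
  haveI hAI : IsAdicComplete J (A ⧸ I) :=
    (IsAdicComplete.map_algebraMap_iff J (A ⧸ I)).1
      (show IsAdicComplete (J.map (algebraMap A (A ⧸ I))) (A ⧸ I) from inferInstance)
  have hI : I ≤ (⊥ : Ideal A).jacobson := IsAdicComplete.le_jacobson_bot I
  have hJ : J ≤ (⊥ : Ideal A).jacobson := fun x hx => by
    rw [Ideal.mem_jacobson_bot]
    intro y
    have h1 := Ideal.mem_jacobson_bot.1
      (IsAdicComplete.le_jacobson_bot _ (Ideal.mem_map_of_mem (Ideal.Quotient.mk I) hx)) (Ideal.Quotient.mk I y)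
    rw [← map_mul, ← map_one (Ideal.Quotient.mk I), ← map_add] at h1
    obtain ⟨z, hz⟩ := Ideal.Quotient.mk_surjective (↑h1.unit⁻¹ : A ⧸ I)
    have h2 : Ideal.Quotient.mk I ((x * y + 1) * z) = 1 := by rw [map_mul, hz]; exact h1.mul_val_inv
    rw [← map_one (Ideal.Quotient.mk I), Ideal.Quotient.eq] at h2
    have h3 := Ideal.mem_jacobson_bot.1 (hI h2) 1
    rw [mul_one, sub_add_cancel] at h3
    exact isUnit_of_mul_isUnit_left h3
  haveI : IsHausdorff J A := ⟨fun x hx => by
    have h : x ∈ (⨅ n, J ^ n • ⊤ : Submodule A A) := (Submodule.mem_iInf _).2 fun n => by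
      simpa [SModEq.sub_mem] using hx n
    rwa [Ideal.iInf_pow_smul_eq_bot_of_le_jacobson J hJ, Submodule.mem_bot] at h⟩
  let π := map J (I.mkQ : A →ₗ[A] A ⧸ I)
  have h1 : ∀ z : AdicCompletion J A, ∃ b : A, z - of J A b ∈ (I • ⊤ : Submodule A (AdicCompletion J A)) := by
    intro z
    obtain ⟨q, hq⟩ := of_surjective J (A ⧸ I) (π z)
    obtain ⟨b, rfl⟩ := Ideal.Quotient.mk_surjective q
    refine ⟨b, ?_⟩
    have h0 : π (z - of J A b) = 0 := by
      rw [map_sub, sub_eq_zero, ← hq]
      exact (map_of J (I.mkQ) b).symm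
    obtain ⟨w, hw⟩ := (map_exact (I := J) (f := I.subtype) (g := I.mkQ) I.injective_subtype
      (LinearMap.exact_iff.2 (by simp)) I.mkQ_surjective _).1 h0
    rw [← hw]
    clear hw
    obtain ⟨t, rfl⟩ := ofTensorProduct_surjective_of_finite J I w
    induction t using TensorProduct.induction_on with
    | zero => simp
    | add a b ha hb => rw [map_add, map_add]; exact add_mem ha hb
    | tmul r x =>
      rw [ofTensorProduct_tmul, LinearMap.map_smul, map_of]
      have : of J A (x : A) * r = (x : A) • r := (Algebra.smul_def (x : A) r).symm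
      show r * of J A (x : A) ∈ _
      rw [mul_comm, this]
      exact Submodule.smul_mem_smul x.2 mem_top
  have hstep : ∀ (n : ℕ), ∀ z ∈ (I ^ n • ⊤ : Submodule A (AdicCompletion J A)),
      ∃ d ∈ I ^ n, z - of J A d ∈ (I ^ (n + 1) • ⊤ : Submodule A (AdicCompletion J A)) := by
    intro n z hz
    refine Submodule.smul_induction_on hz (fun r hr y _ => ?_) fun a b ha hb => ?_
    · obtain ⟨b, hb⟩ := h1 y
      refine ⟨r * b, Ideal.mul_mem_right _ _ hr, ?_⟩
      rw [← smul_eq_mul, LinearMap.map_smul, ← smul_sub, pow_succ, Submodule.mul_smul]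
      exact Submodule.smul_mem_smul hr hb
    · obtain ⟨d, hd, ha⟩ := ha
      obtain ⟨e, he, hb⟩ := hb
      exact ⟨d + e, add_mem hd he, by rw [map_add, add_sub_add_comm]; exact add_mem ha hb⟩
  haveI : IsPrecomplete J A := by
    refine of_surjective_iff.1 fun c => ?_
    choose d hd hd' using hstep
    let a : ∀ n : ℕ, {a : A // c - of J A a ∈ (I ^ n • ⊤ : Submodule A (AdicCompletion J A))} := fun n =>
      n.rec ⟨0, by rw [pow_zero, Ideal.one_eq_top, top_smul]; exact mem_top⟩ fun n p => ⟨p.1 + d n _ p.2, by rw [map_add, ← sub_sub]; exact hd' n _ p.2⟩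
    have hcauchy : ∀ {m n : ℕ}, m ≤ n → (a m).1 ≡ (a n).1 [SMOD (I ^ m • ⊤ : Submodule A A)] := by
      intro m n h
      induction h with
      | refl => exact SModEq.refl _
      | step h ih =>
        refine ih.trans (SModEq.sub_mem.2 ?_)
        rw [smul_eq_mul, Ideal.mul_top]
        show (a _).1 - ((a _).1 + d _ _ _) ∈ _
        rw [sub_add_cancel_left]
        exact neg_mem (Ideal.pow_le_pow_right h (hd _ _ _))
    obtain ⟨L, hL⟩ := IsPrecomplete.prec (I := I) inferInstance hcauchy
    refine ⟨L, ?_⟩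
    have hsub : ∀ n, c - of J A L ∈ (I ^ n • ⊤ : Submodule A (AdicCompletion J A)) := fun n => by
      have h2 := SModEq.sub_mem.1 (hL n)
      have h3 : of J A ((a n).1 - L) ∈ (I ^ n • ⊤ : Submodule A (AdicCompletion J A)) := by
        have := Submodule.mem_map_of_mem (f := of J A) h2
        rw [Submodule.map_smul''] at this
        exact Submodule.smul_mono le_rfl le_top this
      simpa [map_sub] using add_mem (a n).2 h3
    refine AdicCompletion.ext fun m => ?_
    have h4 : eval J A m (c - of J A L) ∈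
        (⨅ n, I ^ n • ⊤ : Submodule A (A ⧸ (J ^ m • ⊤ : Submodule A A))) :=
      (Submodule.mem_iInf _).2 fun n => by
        have := Submodule.mem_map_of_mem (f := eval J A m) (hsub n)
        rw [Submodule.map_smul''] at this
        exact Submodule.smul_mono le_rfl le_top this
    rw [Ideal.iInf_pow_smul_eq_bot_of_le_jacobson I hI, Submodule.mem_bot] at h4
    rw [map_sub, sub_eq_zero] at h4
    exact h4.symm
  constructor

end Groth.Agent.Compl
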