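import Groth.Agent.Lib.Compl.Noetherian
import Mathlib.RingTheory.AdicCompletion.AsTensorProduct
import Mathlib.RingTheory.Ideal.GoingDown
import Mathlib.RingTheory.Ideal.KrullsHeightTheorem
import Mathlib.RingTheory.RegularLocalRing.Defs

open Ideal IsLocalRing

namespace Groth.Agent.Compl

universe u

variable (A : Type u) [CommRing A] [IsLocalRing A] [IsNoetherianRing A]

theorem isNoetherianRing_maximalIdeal_adicCompletion :
    IsNoetherianRing (AdicCompletion (maximalIdeal A) A) :=
  isNoetherianRing_adicCompletion _ (IsNoetherian.noetherian _)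

theorem ringKrullDim_maximalIdeal_adicCompletion :
    ringKrullDim (AdicCompletion (maximalIdeal A) A) = ringKrullDim A := by
  haveI := isNoetherianRing_maximalIdeal_adicCompletion A
  haveI : (maximalIdeal (AdicCompletion (maximalIdeal A) A)).LiesOver (maximalIdeal A) :=
    ⟨(IsLocalRing.maximalIdeal_comap _).symm⟩
  have h := Ideal.height_eq_height_add_of_liesOver_of_hasGoingDown (maximalIdeal A)
    (maximalIdeal (AdicCompletion (maximalIdeal A) A))
  have h0 : ((maximalIdeal (AdicCompletion (maximalIdeal A) A)).map (Ideal.Quotient.mk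
      ((maximalIdeal A).map (algebraMap A (AdicCompletion (maximalIdeal A) A))))) = ⊥ :=
    map_mk_eq_bot_of_le AdicCompletion.maximalIdeal_eq_map.le
  haveI : Nontrivial (AdicCompletion (maximalIdeal A) A ⧸
      (maximalIdeal A).map (algebraMap A (AdicCompletion (maximalIdeal A) A))) := by
    rw [Ideal.Quotient.nontrivial_iff, ← AdicCompletion.maximalIdeal_eq_map]
    exact (maximalIdeal.isMaximal _).ne_top
  rw [h0, Ideal.height_bot, add_zero] at h
  rw [← maximalIdeal_height_eq_ringKrullDim, h, maximalIdeal_height_eq_ringKrullDim]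

theorem isRegularLocalRing_adicCompletion_iff :
    IsRegularLocalRing A ↔ IsRegularLocalRing (AdicCompletion (maximalIdeal A) A) := by
  haveI := isNoetherianRing_maximalIdeal_adicCompletion A
  rw [isRegularLocalRing_iff, isRegularLocalRing_iff, AdicCompletion.spanFinrank_maximalIdeal_eq,
    ringKrullDim_maximalIdeal_adicCompletion]

end Groth.Agent.Compl
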