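import Groth.Agent.Lib.Compl.Noetherian
import Groth.Agent.Lib.Compl.Complete
import Mathlib.RingTheory.Flat.EquationalCriterion
import Mathlib.RingTheory.Filtration
import Mathlib.LinearAlgebra.Matrix.Charpoly.LinearMap
import Mathlib.RingTheory.Localization.Away.Basic
import Mathlib.RingTheory.AdicCompletion.Algebra
import Mathlib.RingTheory.RingHom.FiniteType
import Mathlib.RingTheory.Ideal.Quotient.Noetherian

/-!
# Algebraizing finite algebras over an adic completion
-/

open Submodule

namespace Groth.Agent.Compl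

universe u

section Base

variable {B : Type u} [CommRing B] [IsNoetherianRing B] (I : Ideal B)

local notation "o" => algebraMap B (AdicCompletion I B)

theorem mem_map_pow_iff (n : ℕ) (h : AdicCompletion I B) :
    h ∈ (I ^ n).map o ↔ AdicCompletion.evalₐ I n h = 0 := by
  rw [← Submodule.restrictScalars_mem B, ← Ideal.smul_top_eq_map,
    AdicCompletion.pow_smul_top_eq_ker_eval (IsNoetherian.noetherian I), LinearMap.mem_ker]
  exact (map_eq_zero_iff (Ideal.quotientEquivAlgOfEq B (show (I ^ n • ⊤ : Ideal B) = I ^ n by simp))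
    (AlgEquiv.injective _)).symm

theorem exists_sub_mem_map_pow (n : ℕ) (h : AdicCompletion I B) : ∃ b, h - o b ∈ (I ^ n).map o := by
  obtain ⟨b, hb⟩ := Ideal.Quotient.mk_surjective (AdicCompletion.evalₐ I n h)
  refine ⟨b, (mem_map_pow_iff I n _).2 ?_⟩
  rw [map_sub, AlgHom.commutes, ← hb]
  exact sub_self _

theorem mem_pow_of_map_mem {n : ℕ} {b : B} (h : o b ∈ (I ^ n).map o) : b ∈ I ^ n := by
  rw [mem_map_pow_iff, AlgHom.commutes] at h
  exact Ideal.Quotient.eq_zero_iff_mem.1 h

omit [IsNoetherianRing B] in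
theorem apply_eq_sum {P : Type u} [AddCommGroup P] [Module B P] {k : ℕ} (h₂ : P →ₗ[B] Fin k →₀ B)
    (h₃ : (Fin k →₀ B) →ₗ[B] AdicCompletion I B) (a : P) :
    h₃ (h₂ a) = ∑ i, o (h₂ a i) * h₃ (Finsupp.single i 1) := by
  conv_lhs => rw [← Finsupp.univ_sum_single (h₂ a)]
  rw [map_sum]
  refine Finset.sum_congr rfl fun i _ => ?_
  rw [← Algebra.smul_def, ← map_smul, Finsupp.smul_single, smul_eq_mul, mul_one]

/-- a map out of `Iⁿ` into the completion is algebraic up to a multiplication -/
theorem hom_decomp {n : ℕ} (φ : ↥(I ^ n) →ₗ[B] AdicCompletion I B) :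
    ∃ w, ∀ a : ↥(I ^ n), φ a - o a * w ∈ (o).range := by
  haveI : Module.FinitePresentation B ↥(I ^ n) := Module.finitePresentation_of_finite B _
  obtain ⟨k, h₂, h₃, rfl⟩ := Module.Flat.exists_factorization_of_finitePresentation φ
  choose c hc using fun i => exists_sub_mem_map_pow I n (h₃ (Finsupp.single i 1))
  have key : ∀ (f : ↥(I ^ n) →ₗ[B] B), ∀ e ∈ (I ^ n).map o, ∃ w, ∀ a, o (f a) * e = o a * w := by
    intro f e he
    refine Submodule.span_induction ?_ ⟨0, fun a => by rw [mul_zero, mul_zero]⟩ ?_ ?_ he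
    · rintro _ ⟨g, hg, rfl⟩
      refine ⟨o (f ⟨g, hg⟩), fun a => ?_⟩
      rw [← map_mul, ← map_mul]
      congr 1
      have h1 : (g : B) • a = (a : B) • (⟨g, hg⟩ : ↥(I ^ n)) := Subtype.ext (mul_comm _ _)
      have h2 := congrArg f h1
      rw [map_smul, map_smul, smul_eq_mul, smul_eq_mul] at h2
      rw [mul_comm, h2]
    · rintro e e' - - ⟨w, hw⟩ ⟨w', hw'⟩
      exact ⟨w + w', fun a => by rw [mul_add, hw, hw', mul_add]⟩
    · rintro r e - ⟨w, hw⟩
      exact ⟨r * w, fun a => by rw [smul_eq_mul, mul_left_comm, hw, mul_left_comm]⟩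
  choose w hw using fun i => key ((Finsupp.lapply i) ∘ₗ h₂) _ (hc i)
  refine ⟨∑ i, w i, fun a => ?_⟩
  rw [LinearMap.comp_apply, apply_eq_sum, Finset.mul_sum, ← Finset.sum_sub_distrib]
  refine sum_mem fun i _ => ?_
  have : o (h₂ a i) * (h₃ (Finsupp.single i 1) - o (c i)) = o a * w i := hw i a
  rw [← this, mul_sub, sub_sub_cancel, ← map_mul]
  exact RingHom.mem_range_self _ _

theorem torsion_mem_range {n : ℕ} {h : AdicCompletion I B} (hh : ∀ a ∈ I ^ n, o a * h = 0) :
    h ∈ (o).range := by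
  let φ : B ⧸ I ^ n →ₗ[B] AdicCompletion I B :=
    (I ^ n).liftQ (LinearMap.toSpanSingleton B _ h) fun a ha => by
      rw [LinearMap.mem_ker, LinearMap.toSpanSingleton_apply, Algebra.smul_def]
      exact hh a ha
  haveI : Module.FinitePresentation B (B ⧸ I ^ n) := Module.finitePresentation_of_finite B _
  obtain ⟨k, h₂, h₃, hφ⟩ := Module.Flat.exists_factorization_of_finitePresentation φ
  have h1 : h = h₃ (h₂ ((I ^ n).mkQ 1)) := by
    rw [← LinearMap.comp_apply, ← hφ, Submodule.mkQ_apply, Submodule.liftQ_apply,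
      LinearMap.toSpanSingleton_apply, one_smul]
  rw [h1, apply_eq_sum]
  refine sum_mem fun i _ => ?_
  obtain ⟨c, hc⟩ := exists_sub_mem_map_pow I n (h₃ (Finsupp.single i 1))
  have hkill : ∀ e ∈ (I ^ n).map o, o (h₂ ((I ^ n).mkQ 1) i) * e = 0 := by
    intro e he
    refine Submodule.span_induction ?_ (mul_zero _) ?_ ?_ he
    · rintro _ ⟨g, hg, rfl⟩
      have h2 : g • (I ^ n).mkQ 1 = 0 := by
        rw [← map_smul, Submodule.mkQ_apply, Submodule.Quotient.mk_eq_zero, smul_eq_mul, mul_one]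
        exact hg
      have h3 : g • h₂ ((I ^ n).mkQ 1) = 0 := by rw [← map_smul, h2, map_zero]
      have h4 := DFunLike.congr_fun h3 i
      rw [Finsupp.smul_apply, smul_eq_mul, Finsupp.zero_apply] at h4
      rw [← map_mul, mul_comm, h4, map_zero]
    · intro e e' _ _ h5 h6; rw [mul_add, h5, h6, add_zero]
    · intro r e _ h5; rw [smul_eq_mul, mul_left_comm, h5, mul_zero]
  have h5 := hkill _ hc
  rw [mul_sub, sub_eq_zero] at h5
  rw [h5, ← map_mul]
  exact RingHom.mem_range_self _ _

theorem mem_range_of_forall_mul_mem {n : ℕ} {h : AdicCompletion I B}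
    (hh : ∀ a ∈ I ^ n, o a * h ∈ (o).range) : h ∈ (o).range := by
  classical
  obtain ⟨s, hs⟩ := (IsNoetherian.noetherian (I ^ n) : (I ^ n).FG)
  let r := s.card
  let a : Fin r → B := fun i => (s.equivFin.symm i : B)
  have ha : ∀ i, a i ∈ I ^ n := fun i => hs ▸ Ideal.subset_span (s.equivFin.symm i).2
  have hspan : Ideal.span (Set.range a) = I ^ n := by
    rw [← hs, show Set.range a = (s : Set B) from ?_]
    exact (Set.range_comp _ _).trans (by rw [Equiv.range_eq_univ, Set.image_univ, Subtype.range_coe_subtype]; rfl)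
  choose b hb using fun i => hh (a i) (ha i)
  let f : (Fin r → B) →ₗ[B] B × B := Fintype.linearCombination B fun i => (a i, -b i)
  let x : B × B →ₗ[B] AdicCompletion I B :=
    (LinearMap.toSpanSingleton B _ h).coprod (LinearMap.toSpanSingleton B _ 1)
  have hxf : x ∘ₗ f = 0 := by
    refine LinearMap.pi_ext' fun i => LinearMap.ext_ring ?_
    simp only [LinearMap.comp_apply, LinearMap.single_apply, LinearMap.zero_apply, f]
    rw [Fintype.linearCombination_apply_single, one_smul]
    simp only [x, LinearMap.coprod_apply, LinearMap.toSpanSingleton_apply, Algebra.smul_def, mul_one, map_neg]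
    rw [← hb i, add_neg_cancel]
  obtain ⟨k, α, y, hxy, hαf⟩ := Module.Flat.exists_factorization_of_comp_eq_zero_of_free hxf
  choose c hc using fun i => exists_sub_mem_map_pow I n (y (Finsupp.single i 1))
  let P : B := ∑ i, α (1, 0) i * c i
  let Q : B := ∑ i, α (0, 1) i * c i
  have hx1 : h = ∑ i, o (α (1, 0) i) * y (Finsupp.single i 1) := by
    rw [← apply_eq_sum, ← LinearMap.comp_apply, ← hxy]
    simp [x]
  have hx2 : (1 : AdicCompletion I B) = ∑ i, o (α (0, 1) i) * y (Finsupp.single i 1) := by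
    rw [← apply_eq_sum, ← LinearMap.comp_apply, ← hxy]
    simp [x]
  have hPQ : ∀ l i, a l * α (1, 0) i = b l * α (0, 1) i := by
    intro l i
    have h0 : α (a l, -b l) = 0 := by
      have := LinearMap.congr_fun hαf (Pi.single l 1)
      simpa [f, Fintype.linearCombination_apply_single] using this
    have h1 : ((a l, -b l) : B × B) = a l • ((1, 0) : B × B) + (-b l) • ((0, 1) : B × B) := by simp
    rw [h1, map_add, map_smul, map_smul] at h0
    have h2 := DFunLike.congr_fun h0 i
    simp only [Finsupp.add_apply, Finsupp.smul_apply, Finsupp.zero_apply, smul_eq_mul] at h2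
    linear_combination h2
  have hQ : 1 - Q ∈ I ^ n := by
    refine mem_pow_of_map_mem I ?_
    rw [map_sub, map_one, hx2, map_sum, ← Finset.sum_sub_distrib]
    refine sum_mem fun i _ => ?_
    rw [map_mul, ← mul_sub]
    exact Ideal.mul_mem_left _ _ (hc i)
  rw [← hspan] at hQ
  obtain ⟨β, hβ⟩ := (Ideal.mem_span_range_iff_exists_fun).1 hQ
  have h' : h - o (P + ∑ l, b l * β l) ∈ (o).range := by
    refine torsion_mem_range I (n := n) fun g hg => ?_
    rw [← hspan] at hg
    obtain ⟨γ, rfl⟩ := (Ideal.mem_span_range_iff_exists_fun).1 hg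
    rw [map_sum, Finset.sum_mul]
    refine Finset.sum_eq_zero fun i _ => ?_
    have hP : a i * P = b i * Q := by
      simp only [P, Q, Finset.mul_sum]
      exact Finset.sum_congr rfl fun l _ => by linear_combination (c l) * hPQ i l
    have hsym : ∀ l, o (a i * (b l * β l)) = o (b i * (a l * β l)) := fun l => by
      simp only [map_mul, hb]
      ring
    have hm : o (a i) * o (∑ l, b l * β l) = o (b i) * o (∑ l, a l * β l) := by
      rw [map_sum, map_sum, Finset.mul_sum, Finset.mul_sum]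
      exact Finset.sum_congr rfl fun l _ => by rw [← map_mul, ← map_mul]; exact hsym l
    rw [map_mul, mul_assoc, mul_sub, ← hb i, map_add, mul_add, hm, ← map_mul o (a i) P, hP, map_mul, ← mul_add,
      ← map_add, show ∑ l, a l * β l = 1 - Q by rw [← hβ]; exact Finset.sum_congr rfl fun l _ => mul_comm _ _,
      add_sub_cancel, map_one, mul_one, sub_self, mul_zero]
  have := add_mem h' (RingHom.mem_range_self o (P + ∑ l, b l * β l))
  rwa [sub_add_cancel] at this

end Base

section Descend

variable {B : Type u} [CommRing B] [IsNoetherianRing B] (I : Ideal B)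
  (E : Type u) [CommRing E] [Algebra (AdicCompletion I B) E] [Algebra B E]
  [IsScalarTower B (AdicCompletion I B) E] [Module.Finite (AdicCompletion I B) E]
  (N : ℕ) (hK : ∀ k : AdicCompletion I B, algebraMap _ E k = 0 → ∀ a ∈ I ^ N, algebraMap B _ a * k = 0)
  (hQ : ∀ a ∈ I ^ N, ∀ z : E, ∃ h : AdicCompletion I B, algebraMap _ E h = algebraMap B E a * z)

/-- the elements algebraic away from `V(I)` -/
def descend : Subalgebra B E where
  carrier := {z | ∃ n, ∀ a ∈ I ^ n, algebraMap B E a * z ∈ (algebraMap B E).range}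
  mul_mem' := by
    rintro x y ⟨n, hn⟩ ⟨m, hm⟩
    refine ⟨n + m, fun a ha => ?_⟩
    rw [pow_add] at ha
    refine Submodule.mul_induction_on ha (fun p hp q hq => ?_) fun p q hp hq => ?_
    · rw [map_mul, show algebraMap B E p * algebraMap B E q * (x * y) = (algebraMap B E p * x) * (algebraMap B E q * y) by ring]
      exact mul_mem (hn p hp) (hm q hq)
    · rw [map_add, add_mul]; exact add_mem hp hq
  add_mem' := by
    rintro x y ⟨n, hn⟩ ⟨m, hm⟩
    refine ⟨n + m, fun a ha => ?_⟩
    rw [mul_add]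
    exact add_mem (hn a (Ideal.pow_le_pow_right (Nat.le_add_right n m) ha))
      (hm a (Ideal.pow_le_pow_right (Nat.le_add_left m n) ha))
  algebraMap_mem' r := ⟨0, fun a _ => by rw [← map_mul]; exact RingHom.mem_range_self _ _⟩

include hK in
theorem mem_range_of_mem_descend {h : AdicCompletion I B} (hd : algebraMap _ E h ∈ descend I E) :
    algebraMap (AdicCompletion I B) E h ∈ (algebraMap B E).range := by
  obtain ⟨n, hn⟩ := hd
  have hh : h ∈ (algebraMap B (AdicCompletion I B)).range := by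
    refine mem_range_of_forall_mul_mem I (n := N + n) fun a ha => ?_
    rw [pow_add] at ha
    refine Submodule.mul_induction_on ha (fun p hp q hq => ?_) fun p q hp hq => ?_
    · obtain ⟨b, hb⟩ := hn q hq
      rw [IsScalarTower.algebraMap_apply B (AdicCompletion I B) E b,
        IsScalarTower.algebraMap_apply B (AdicCompletion I B) E q, ← map_mul] at hb
      have := hK _ (sub_eq_zero.2 hb.symm |> (map_sub _ _ _).trans) p hp
      rw [mul_sub, sub_eq_zero, ← mul_assoc, ← map_mul, ← map_mul] at this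
      exact ⟨p * b, this.symm⟩
    · rw [map_add, add_mul]; exact add_mem hp hq
  obtain ⟨b, rfl⟩ := hh
  exact ⟨b, IsScalarTower.algebraMap_apply B _ E b⟩

include hK hQ in
theorem exists_mem_descend_add (z : E) : ∃ d ∈ descend I E, ∃ h : AdicCompletion I B, z = d + algebraMap _ E h := by
  classical
  let Bh := AdicCompletion I B
  haveI : IsNoetherianRing Bh := by
    exact isNoetherianRing_adicCompletion I (IsNoetherian.noetherian I)
  let J : Ideal Bh := I.map (algebraMap B Bh)
  obtain ⟨c, hc⟩ := J.exists_pow_inf_eq_pow_smul (RingHom.ker (algebraMap Bh E) : Submodule Bh Bh)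
  have huniq : ∀ h, h ∈ (I ^ (N + c)).map (algebraMap B Bh) → algebraMap Bh E h = 0 → h = 0 := by
    intro h h1 h2
    have h3 : h ∈ J ^ (N + c) • ⊤ ⊓ (RingHom.ker (algebraMap Bh E) : Submodule Bh Bh) := by
      refine ⟨?_, h2⟩
      rw [smul_eq_mul, Ideal.mul_top, ← Ideal.map_pow]
      exact h1
    rw [hc _ (Nat.le_add_left c N), Nat.add_sub_cancel] at h3
    refine Submodule.smul_induction_on h3 (fun r hr k hk => ?_) fun p q hp hq => by rw [hp, hq, add_zero]
    rw [← Ideal.map_pow] at hr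
    refine Submodule.span_induction ?_ (zero_smul _ _) ?_ ?_ hr
    · rintro _ ⟨g, hg, rfl⟩
      rw [smul_eq_mul]
      exact hK k hk.2 g hg
    · intro p q _ _ hp hq; rw [add_smul, hp, hq, add_zero]
    · intro p q _ hq; rw [smul_eq_mul] at hq ⊢; rw [smul_eq_mul, mul_assoc, hq, mul_zero]
  have hex : ∀ a : ↥(I ^ (N + c + N)), ∃ h ∈ (I ^ (N + c)).map (algebraMap B Bh),
      algebraMap Bh E h = algebraMap B E a * z := by
    rintro ⟨a, ha⟩
    show ∃ h ∈ (I ^ (N + c)).map (algebraMap B Bh), algebraMap Bh E h = algebraMap B E a * z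
    rw [pow_add] at ha
    refine Submodule.mul_induction_on ha (fun p hp q hq => ?_) fun p q hp hq => ?_
    · obtain ⟨h, hh⟩ := hQ q hq z
      refine ⟨algebraMap B Bh p * h, Ideal.mul_mem_right _ _ (Ideal.mem_map_of_mem _ hp), ?_⟩
      rw [map_mul, hh, ← IsScalarTower.algebraMap_apply, map_mul, mul_assoc]
    · obtain ⟨h, h1, h2⟩ := hp
      obtain ⟨h', h1', h2'⟩ := hq
      exact ⟨h + h', add_mem h1 h1', by rw [map_add, h2, h2', map_add, add_mul]⟩
  choose φf hφ1 hφ2 using hex
  let φ : ↥(I ^ (N + c + N)) →ₗ[B] Bh :=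
    { toFun := φf
      map_add' := fun a a' => by
        refine sub_eq_zero.1 (huniq _ (sub_mem (hφ1 _) (add_mem (hφ1 _) (hφ1 _))) ?_)
        rw [map_sub, map_add, hφ2, hφ2, hφ2, Submodule.coe_add, map_add, add_mul, sub_self]
      map_smul' := fun r a => by
        rw [RingHom.id_apply, Algebra.smul_def r (φf a)]
        refine sub_eq_zero.1 (huniq _ (sub_mem (hφ1 _) (Ideal.mul_mem_left _ _ (hφ1 _))) ?_)
        rw [map_sub, map_mul, hφ2, hφ2, ← IsScalarTower.algebraMap_apply, Submodule.coe_smul, smul_eq_mul,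
          map_mul, mul_assoc, sub_self] }
  obtain ⟨w, hw⟩ := hom_decomp I φ
  refine ⟨z - algebraMap Bh E w, ⟨N + c + N, fun a ha => ?_⟩, w, (sub_add_cancel z _).symm⟩
  obtain ⟨b, hb⟩ := hw ⟨a, ha⟩
  refine ⟨b, ?_⟩
  rw [IsScalarTower.algebraMap_apply B Bh E b, hb, map_sub, map_mul, ← IsScalarTower.algebraMap_apply, mul_sub]
  congr 1
  exact hφ2 ⟨a, ha⟩

include hK hQ in
theorem finite_descend : Module.Finite B (descend I E) := by
  classical
  obtain ⟨s, hs⟩ := (Module.Finite.fg_top : (⊤ : Submodule (AdicCompletion I B) E).FG)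
  choose d hd h heq using fun z : s => exists_mem_descend_add I E N hK hQ (z : E)
  let t : Set (descend I E) := insert 1 (Set.range fun z : s => (⟨d z, hd z⟩ : descend I E))
  refine ⟨⟨(((Set.finite_range fun z : s => (⟨d z, hd z⟩ : descend I E)).insert 1).toFinset), ?_⟩⟩
  rw [Set.Finite.coe_toFinset, eq_top_iff]
  rintro ⟨x, hx⟩ -
  have h1 : x ∈ Submodule.span (AdicCompletion I B) (Set.range fun z : s => (z : E)) := by
    rw [Subtype.range_coe_subtype]
    exact hs.symm ▸ Submodule.mem_top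
  obtain ⟨g, hg⟩ := (Submodule.mem_span_range_iff_exists_fun _).1 h1
  choose c hc using fun z => exists_sub_mem_map_pow I N (g z)
  have hmul : ∀ e ∈ (I ^ N).map (algebraMap B (AdicCompletion I B)), ∀ z : E,
      ∃ h : AdicCompletion I B, algebraMap _ E h = e • z := by
    intro e he z
    refine Submodule.span_induction ?_ ⟨0, by rw [map_zero, zero_smul]⟩ ?_ ?_ he
    · rintro _ ⟨a, ha, rfl⟩
      obtain ⟨h, hh⟩ := hQ a ha z
      exact ⟨h, by rw [hh, algebraMap_smul, Algebra.smul_def]⟩
    · rintro p q - - ⟨h, hh⟩ ⟨h', hh'⟩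
      exact ⟨h + h', by rw [map_add, hh, hh', add_smul]⟩
    · rintro p q - ⟨h, hh⟩
      exact ⟨p * h, by rw [map_mul, hh, ← Algebra.smul_def, smul_smul]; rfl⟩
  choose e he using fun z : s => hmul _ (hc z) (z : E)
  have hrest : x - ∑ z : s, c z • d z = algebraMap _ E (∑ z : s, (algebraMap B _ (c z) * h z + e z)) := by
    rw [← hg, ← Finset.sum_sub_distrib, map_sum]
    refine Finset.sum_congr rfl fun z _ => ?_
    rw [map_add, he, map_mul, ← IsScalarTower.algebraMap_apply, sub_smul, algebraMap_smul, Algebra.smul_def (c z),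
      Algebra.smul_def (c z)]
    linear_combination (algebraMap B E (c z)) * heq z
  have hmem : x - ∑ z : s, c z • d z ∈ descend I E :=
    sub_mem hx (sum_mem fun z _ => (descend I E).smul_mem (hd z) _)
  obtain ⟨b, hb⟩ := mem_range_of_mem_descend I E N hK (hrest ▸ hmem)
  rw [← hrest] at hb
  have hfin : (⟨x, hx⟩ : descend I E) = algebraMap B _ b + ∑ z : s, c z • (⟨d z, hd z⟩ : descend I E) := by
    apply Subtype.ext
    simp only [Subalgebra.coe_add, AddSubmonoidClass.coe_finsetSum, Subalgebra.coe_algebraMap, Subalgebra.coe_smul, hb]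
    rw [sub_add_cancel]
  rw [hfin, Algebra.algebraMap_eq_smul_one]
  exact add_mem (Submodule.smul_mem _ _ (Submodule.subset_span (Set.mem_insert _ _)))
    (sum_mem fun z _ => Submodule.smul_mem _ _ (Submodule.subset_span (Set.mem_insert_of_mem _ ⟨z, rfl⟩)))

include hK hQ in
theorem exists_mem_descend_sub_mem (n : ℕ) (z : E) :
    ∃ d ∈ descend I E, z - d ∈ (I ^ n).map (algebraMap B E) := by
  obtain ⟨d, hd, h, rfl⟩ := exists_mem_descend_add I E N hK hQ z
  obtain ⟨b, hb⟩ := exists_sub_mem_map_pow I n h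
  refine ⟨d + algebraMap B E b, add_mem hd ((descend I E).algebraMap_mem b), ?_⟩
  rw [IsScalarTower.algebraMap_apply B (AdicCompletion I B) E b,
    IsScalarTower.algebraMap_eq B (AdicCompletion I B) E, ← Ideal.map_map, add_sub_add_left_eq_sub, ← map_sub]
  exact Ideal.mem_map_of_mem _ hb

include hK hQ in
theorem mem_map_of_mem_descend {n : ℕ} {z : E} (hz : z ∈ descend I E) (hzn : z ∈ (I ^ n).map (algebraMap B E)) :
    (⟨z, hz⟩ : descend I E) ∈ (I ^ n).map (algebraMap B (descend I E)) := by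
  let T : Ideal (descend I E) := (I ^ n).map (algebraMap B (descend I E))
  have key : ∀ z ∈ (I ^ n).map (algebraMap B E), ∃ d ∈ T, ∃ h ∈ (I ^ n).map (algebraMap B (AdicCompletion I B)),
      z = (d : E) + algebraMap _ E h := by
    intro z hz
    rw [← Submodule.restrictScalars_mem B, ← Ideal.smul_top_eq_map] at hz
    refine Submodule.smul_induction_on hz (fun a ha e _ => ?_) fun p q hp hq => ?_
    · obtain ⟨d, hd, h, rfl⟩ := exists_mem_descend_add I E N hK hQ e
      refine ⟨algebraMap B _ a * ⟨d, hd⟩, Ideal.mul_mem_right _ _ (Ideal.mem_map_of_mem _ ha),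
        algebraMap B _ a * h, Ideal.mul_mem_right _ _ (Ideal.mem_map_of_mem _ ha), ?_⟩
      rw [Subalgebra.coe_mul, Subalgebra.coe_algebraMap, map_mul, ← IsScalarTower.algebraMap_apply, Algebra.smul_def, mul_add]
    · obtain ⟨d, hd, h, hh, rfl⟩ := hp
      obtain ⟨d', hd', h', hh', rfl⟩ := hq
      exact ⟨d + d', add_mem hd hd', h + h', add_mem hh hh', by rw [Subalgebra.coe_add, map_add]; ring⟩
  obtain ⟨d, hd, h, hh, heq⟩ := key z hzn
  have hdm : algebraMap (AdicCompletion I B) E h ∈ descend I E := by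
    rw [eq_sub_of_add_eq' heq.symm]; exact sub_mem hz d.2
  obtain ⟨b, hb⟩ := mem_range_of_mem_descend I E N hK hdm
  rw [IsScalarTower.algebraMap_apply B (AdicCompletion I B) E b] at hb
  obtain ⟨k, hk⟩ := torsion_mem_range I (n := N) (hK (h - algebraMap B _ b) (by rw [map_sub, hb, sub_self]))
  have hbk : algebraMap B (AdicCompletion I B) (b + k) = h := by rw [map_add, hk, add_sub_cancel]
  have hmem : b + k ∈ I ^ n := mem_pow_of_map_mem I (hbk.symm ▸ hh)
  have : (⟨z, hz⟩ : descend I E) = d + algebraMap B _ (b + k) := by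
    apply Subtype.ext
    rw [Subalgebra.coe_add, Subalgebra.coe_algebraMap, IsScalarTower.algebraMap_apply B (AdicCompletion I B) E, hbk]
    exact heq
  rw [this]
  exact add_mem hd (Ideal.mem_map_of_mem _ hmem)

end Descend

/-- a criterion identifying an adic completion -/
theorem exists_ringEquiv_adicCompletion {G C : Type u} [CommRing G] [CommRing C] (L : Ideal G) (ψ : G →+* C)
    [IsAdicComplete (L.map ψ) C] (hsurj : ∀ n c, ∃ g, c - ψ g ∈ (L.map ψ) ^ n)
    (hinj : ∀ n g, ψ g ∈ (L.map ψ) ^ n → g ∈ L ^ n) :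
    ∃ e : C ≃+* AdicCompletion L G, ∀ g, e (ψ g) = algebraMap G (AdicCompletion L G) g := by
  let M := L.map ψ
  let q : ∀ n, G ⧸ L ^ n →+* C ⧸ M ^ n := fun n => Ideal.quotientMap (M ^ n) ψ <| by
    rw [← Ideal.map_le_iff_le_comap, Ideal.map_pow]
  have hq : ∀ n, Function.Bijective (q n) := fun n => by
    refine ⟨(injective_iff_map_eq_zero _).2 fun x hx => ?_, fun y => ?_⟩
    · obtain ⟨g, rfl⟩ := Ideal.Quotient.mk_surjective x
      rw [Ideal.quotientMap_mk, Ideal.Quotient.eq_zero_iff_mem] at hx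
      exact Ideal.Quotient.eq_zero_iff_mem.2 (hinj n g hx)
    · obtain ⟨c, rfl⟩ := Ideal.Quotient.mk_surjective y
      obtain ⟨g, hg⟩ := hsurj n c
      exact ⟨Ideal.Quotient.mk _ g, by rw [Ideal.quotientMap_mk]; exact (Ideal.Quotient.eq.2 hg).symm⟩
  let f : ∀ n, C →+* G ⧸ L ^ n := fun n =>
    ((RingEquiv.ofBijective (q n) (hq n)).symm : C ⧸ M ^ n →+* G ⧸ L ^ n).comp (Ideal.Quotient.mk (M ^ n))
  have hqf : ∀ n c, q n (f n c) = Ideal.Quotient.mk (M ^ n) c := fun n c =>
    (RingEquiv.ofBijective (q n) (hq n)).apply_symm_apply _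
  have hf : ∀ {m n : ℕ} (hle : m ≤ n), (Ideal.Quotient.factorPow L hle).comp (f n) = f m := by
    intro m n hle
    refine RingHom.ext fun c => (hq m).1 ?_
    obtain ⟨g, hg⟩ := Ideal.Quotient.mk_surjective (f n c)
    have h1 := hqf n c
    rw [← hg, Ideal.quotientMap_mk, Ideal.Quotient.eq] at h1
    rw [hqf, RingHom.comp_apply, ← hg]
    show q m (Ideal.Quotient.mk _ g) = _
    rw [Ideal.quotientMap_mk, Ideal.Quotient.eq]
    exact Ideal.pow_le_pow_right hle h1
  let H : C →+* AdicCompletion L G := AdicCompletion.liftRingHom L f hf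
  have hH : ∀ n c, AdicCompletion.evalₐ L n (H c) = f n c := fun n c => AdicCompletion.evalₐ_liftRingHom L f hf n c
  have hHψ : ∀ g, H (ψ g) = algebraMap G _ g := fun g => AdicCompletion.ext_evalₐ fun n => by
    rw [hH, AlgHom.commutes]
    exact (hq n).1 ((hqf n _).trans (Ideal.quotientMap_mk (f := ψ) ..).symm)
  refine ⟨RingEquiv.ofBijective H ⟨?_, fun x => ?_⟩, hHψ⟩
  · rw [injective_iff_map_eq_zero]
    intro c hc
    refine IsHausdorff.haus' (I := M) c fun n => ?_
    rw [SModEq.sub_mem, sub_zero, smul_eq_mul, Ideal.mul_top, ← Ideal.Quotient.eq_zero_iff_mem, ← hqf, ← hH, hc,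
      map_zero, map_zero]
  · revert x
    intro x
    refine AdicCompletion.induction_on (p := fun x => ∃ c, H c = x) L G x fun a => ?_
    have hcauchy : ∀ {m n : ℕ}, m ≤ n → ψ (a.val m) ≡ ψ (a.val n) [SMOD (M ^ m • ⊤ : Submodule C C)] := by
      intro m n hle
      rw [SModEq.sub_mem, smul_eq_mul, Ideal.mul_top, ← map_sub, ← Ideal.map_pow]
      refine Ideal.mem_map_of_mem _ ?_
      have h := SModEq.sub_mem.1 (a.property hle)
      rwa [smul_eq_mul, Ideal.mul_top] at h
    obtain ⟨c, hc⟩ := IsPrecomplete.prec (I := M) inferInstance hcauchy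
    refine ⟨c, AdicCompletion.ext_evalₐ fun n => (hq n).1 ?_⟩
    have h1 := SModEq.sub_mem.1 (hc n)
    rw [smul_eq_mul, Ideal.mul_top] at h1
    rw [hH, hqf, AdicCompletion.evalₐ_mk, Ideal.quotientMap_mk]
    exact (Ideal.Quotient.eq.2 h1).symm

end Groth.Agent.Compl
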